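import Cfsg.Agent.H604.On.CycLin
import Cfsg.Agent.H952.On.Table
import Cfsg.Agent.H507.GmnLinA

/-!
# The rows `PSL_n(q)`, `p` not dividing `q - 1`, of S3855 (helper604)

* `iterate_pow` : from `z ~ z ^ q` for all `z` of order `p` to `z ~ z ^ (q ^ k)`;
* `exists_inv_of_even` : if the order of `q` modulo `p` is even, then `z ~ z⁻¹`;
* `psl_b` : the row.
-/

set_option autoImplicit false

namespace Cfsg.Agent.H604.On

open Cfsg Cfsg.Agent.H467.OddNorm Subgroup

universe u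

section Conj

variable {G : Type u} [Group G] {p : ℕ}

/-- iterate the fusion `z ~ z ^ a` -/
theorem iterate_pow {a : ℕ} (h : ∀ z : G, z ^ p = 1 → ∃ g : G, g * z * g⁻¹ = z ^ a) (k : ℕ) {z : G} (hz : z ^ p = 1) :
    ∃ g : G, g * z * g⁻¹ = z ^ (a ^ k) := by
  induction k with
  | zero => exact ⟨1, by simp⟩
  | succ k ih =>
    obtain ⟨g, hg⟩ := ih
    obtain ⟨g', hg'⟩ := h (z ^ (a ^ k)) (by rw [← pow_mul, mul_comm, pow_mul, hz, one_pow])
    refine ⟨g' * g, ?_⟩
    have e : g' * g * z * (g' * g)⁻¹ = g' * (g * z * g⁻¹) * g'⁻¹ := by group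
    rw [e, hg, hg', ← pow_mul, pow_succ]

/-- if `x : ZMod p` has even positive order then `x ^ (order / 2) = -1` -/
theorem pow_half_eq_neg_one [hp : Fact p.Prime] {x : ZMod p} (h0 : x ≠ 0) (he : Even (orderOf x)) :
    ∃ k : ℕ, x ^ k = -1 := by
  obtain ⟨k, hk⟩ := he
  have hfo : IsOfFinOrder x := by
    rw [isOfFinOrder_iff_pow_eq_one]
    exact ⟨p - 1, Nat.sub_pos_of_lt hp.out.one_lt, ZMod.pow_card_sub_one_eq_one h0⟩
  have hpos : 0 < orderOf x := hfo.orderOf_pos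
  refine ⟨k, ?_⟩
  have h1 : (x ^ k) * (x ^ k) = 1 := by rw [← pow_add, ← hk, pow_orderOf_eq_one]
  rcases mul_self_eq_one_iff.1 h1 with h2 | h2
  · exfalso
    have h3 : orderOf x ≤ k := orderOf_le_of_pow_eq_one (by omega) h2
    omega
  · exact h2

/-- elements of order `p` are real if they are conjugate to their `a`-th powers, `a` of even order modulo `p` -/
theorem exists_inv_of_even [hp : Fact p.Prime] {a : ℕ} (h : ∀ z : G, z ^ p = 1 → ∃ g : G, g * z * g⁻¹ = z ^ a)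
    (h0 : (a : ZMod p) ≠ 0) (he : Even (orderOf (a : ZMod p))) {z : G} (hz : z ^ p = 1) :
    ∃ g : G, g * z * g⁻¹ = z⁻¹ := by
  obtain ⟨k, hk⟩ := pow_half_eq_neg_one h0 he
  obtain ⟨g, hg⟩ := iterate_pow h k hz
  refine ⟨g, ?_⟩
  rw [hg, eq_inv_iff_mul_eq_one, ← pow_succ]
  have h1 : ((a ^ k + 1 : ℕ) : ZMod p) = 0 := by
    push_cast
    rw [hk, neg_add_cancel]
  obtain ⟨m, hm⟩ := (ZMod.natCast_eq_zero_iff _ _).1 h1
  rw [hm, pow_mul, hz, one_pow]

end Conj

theorem card_ne_zero {F : Type*} [Field F] [Fintype F] {p : ℕ} [hp : Fact p.Prime] (hpF : (p : F) ≠ 0) :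
    ((Fintype.card F : ℕ) : ZMod p) ≠ 0 := by
  intro h
  obtain ⟨r, hcr, n, hr, hcard⟩ := FiniteField.card' F
  rw [ZMod.natCast_eq_zero_iff, hcard] at h
  have h1 : p = r := (Nat.prime_dvd_prime_iff_eq hp.out hr).1 (hp.out.dvd_of_dvd_pow h)
  subst h1
  exact hpF (CharP.cast_eq_zero F p)

/-- **ON-PSL-b** -/
theorem psl_b {F : Type} [Field F] [Fintype F] {n p : ℕ} [Fact p.Prime] (hn : 2 ≤ n) (hp2 : p ≠ 2)
    (hpF : (p : F) ≠ 0) (hpq : ¬ p ∣ Fintype.card F - 1)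
    (he : Even (orderOf ((Fintype.card F : ℕ) : ZMod p)) ∨ n < 2 * orderOf ((Fintype.card F : ℕ) : ZMod p))
    (hc : Subgroup.center (Matrix.ProjectiveSpecialLinearGroup (Fin n) F) = ⊥)
    (hd : p ∣ Nat.card (Matrix.ProjectiveSpecialLinearGroup (Fin n) F)) :
    Row p (Matrix.ProjectiveSpecialLinearGroup (Fin n) F) := by
  classical
  have hfin : Finite (Matrix.ProjectiveSpecialLinearGroup (Fin n) F) :=
    Quotient.finite _
  rcases he with he | he
  · refine Row.ev (Ev.of_real hp2 hc hd fun z hz _ => ?_)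
    exact exists_inv_of_even (fun z hz => Cfsg.Agent.H507.GmnLinA.conj_pow Fact.out hpF hpq hz) (card_ne_zero hpF) he
      (by rw [← hz]; exact pow_orderOf_eq_one z)
  · refine Row.cyclic fun Q => ?_
    exact Cfsg.Agent.H952.Rc.isCyclic_sylow_of_surjective
      (QuotientGroup.mk' (Subgroup.center (Matrix.SpecialLinearGroup (Fin n) F)))
      (QuotientGroup.mk'_surjective _) (fun P => isCyclic_sl hpF he P.isPGroup') Q

end Cfsg.Agent.H604.On
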